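import Groth.Agent.KSix54.SmoothTor.Stalk
import Groth.Agent.KSix54.AmpComp
import Groth.Agent.KSix54.AmpModule

/-!
# Tor dimension of a morphism into a smooth scheme, flat over the base
-/

set_option linter.style.haveILetI false
set_option autoImplicit false

universe u

open CategoryTheory CategoryTheory.Limits AlgebraicGeometry

attribute [local instance] HasDerivedCategory.standard

namespace Groth.Agent.TorDimTarget

open Groth.Agent.KSix54 Groth.Agent.KSix54.SmoothTor Groth.Agent.H9Misc

variable {X Z Y : Scheme.{u}}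

/-- Amplitude drop along a smooth morphism, for complexes on a scheme over its source. -/
theorem torAmplitudeAt_drop (f : X ⟶ Z) (g : Z ⟶ Y) (n : ℕ) [SmoothOfRelativeDimension n g]
    {F : CochainComplex X.Modules ℤ} {a b : ℤ} (x : X) (h : DerSch.HasTorAmplitudeAt (f ≫ g) a b F x) :
    DerSch.HasTorAmplitudeAt f (a - n) b F x := by
  haveI : Smooth g := SmoothOfRelativeDimension.smooth n g
  obtain ⟨U, hU, V, hV, hz, e, hs⟩ :=
    SmoothOfRelativeDimension.exists_isStandardSmoothOfRelativeDimension (n := n) (f := g) (f.base x)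
  let z := f.base x
  let R := Γ(Y, U)
  let B := Γ(Z, V)
  let B' := Z.presheaf.stalk z
  let α : (R : Type u) →+* (B : Type u) := (g.appLE U V e).hom
  let β : (B : Type u) →+* (B' : Type u) := (Z.presheaf.germ V z hz).hom
  let ρ : (R : Type u) →+* (Y.presheaf.stalk (g.base z) : Type u) := (Y.presheaf.germ U (g.base z) (e hz)).hom
  let φ : (R : Type u) →+* (B' : Type u) := β.comp α
  have hcomp : φ = (g.stalkMap z).hom.comp ρ := by
    refine congrArg CommRingCat.Hom.hom (show g.appLE U V e ≫ Z.presheaf.germ V z hz =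
      Y.presheaf.germ U (g.base z) (e hz) ≫ g.stalkMap z from ?_)
    exact ((Category.assoc _ _ _).trans (congrArg (g.app U ≫ ·) (Z.presheaf.germ_res (homOfLE e) z hz))).trans
      (g.germ_stalkMap U z (e hz)).symm
  letI : Algebra R B := α.toAlgebra
  letI : Algebra B B' := β.toAlgebra
  letI : Algebra R B' := φ.toAlgebra
  haveI : IsScalarTower R B B' := IsScalarTower.of_algebraMap_eq fun _ => rfl
  haveI : IsLocalization.AtPrime B' (hV.primeIdealOf ⟨z, hz⟩).asIdeal := hV.isLocalization_stalk ⟨z, hz⟩
  haveI : Algebra.IsStandardSmoothOfRelativeDimension n R B := hs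
  have hα : α.Flat := HasRingHomProperty.appLE @Flat g inferInstance ⟨U, hU⟩ ⟨V, hV⟩ e
  have hβ : β.Flat := IsLocalization.flat B' (hV.primeIdealOf ⟨z, hz⟩).asIdeal.primeCompl
  have hρ : ρ.Flat := by
    letI : Algebra R (Y.presheaf.stalk (g.base z)) := ρ.toAlgebra
    haveI : IsLocalization.AtPrime (Y.presheaf.stalk (g.base z)) (hU.primeIdealOf ⟨g.base z, e hz⟩).asIdeal :=
      hU.isLocalization_stalk ⟨g.base z, e hz⟩
    exact IsLocalization.flat (Y.presheaf.stalk (g.base z)) (hU.primeIdealOf ⟨g.base z, e hz⟩).asIdeal.primeCompl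
  have hd : DiagTD R B' n :=
    diagTD_localization R B B' (hV.primeIdealOf ⟨z, hz⟩).asIdeal.primeCompl n
  let e₁ : DerSch.stalkOver f x ⋙ ModuleCat.restrictScalars φ ≅
      DerSch.stalkOver (f ≫ g) x ⋙ ModuleCat.restrictScalars ρ :=
    Functor.isoWhiskerLeft (DerSch.stalkOver f x) (ModuleCat.restrictScalarsComp' ρ (g.stalkMap z).hom φ hcomp) ≪≫
      (Functor.associator _ _ _).symm ≪≫
        Functor.isoWhiskerRight (stalkOverCompIso f g x).symm (ModuleCat.restrictScalars ρ)
  refine hasTorAmplitudeIn_drop φ (RingHom.Flat.comp hα hβ) n hd _ a b ?_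
  refine DRingTor.of_iso (DerivedCategory.Q.mapIso
    (HomologicalComplex.Hom.isoOfComponents (fun i => (e₁.app (F.X i)).symm)
      (fun i j _ => (e₁.inv.naturality (F.d i j)).symm)))
    (amp_restrict_flat ρ hρ h)

/-- A morphism to a smooth scheme of relative dimension `n` that is flat over the base has tor dimension `≤ n`. -/
theorem hasTorDimLE_of_flat (f : X ⟶ Z) (g : Z ⟶ Y) (n : ℕ) [SmoothOfRelativeDimension n g] [Flat (f ≫ g)] :
    DerSch.HasTorDimLE f n := fun x => by
  have h := torAmplitudeAt_drop f g n x ((torDimLE_zero_iff_flat (f ≫ g)).2 inferInstance x)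
  rwa [Nat.cast_zero, neg_zero, zero_sub] at h

end Groth.Agent.TorDimTarget
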